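import Mathlib
import Cfsg.Agent.S0752

set_option autoImplicit false

/-!
# Counting invertible symmetric and alternating matrices in characteristic two (helper195)
-/

open scoped Matrix

namespace Cfsg.Agent.H195

/-- Counting a group by a map whose fibres are the left cosets of a subgroup. -/
theorem card_eq_card_mul {P X : Type*} [Group P] (φ : P → X) (hφ : Function.Surjective φ)
    (H : Subgroup P) (h : ∀ a b, φ a = φ b ↔ a⁻¹ * b ∈ H) :
    Nat.card P = Nat.card X * Nat.card H := by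
  rw [Subgroup.card_eq_card_quotient_mul_card_subgroup H]
  congr 1
  apply Nat.card_congr
  refine Equiv.ofBijective (Quotient.lift φ ?_) ⟨?_, ?_⟩
  · intro a b hab
    rw [h]
    exact QuotientGroup.leftRel_apply.1 hab
  · rintro ⟨a⟩ ⟨b⟩ hab
    exact Quotient.sound (QuotientGroup.leftRel_apply.2 ((h a b).1 hab))
  · intro x
    obtain ⟨a, rfl⟩ := hφ x
    exact ⟨Quotient.mk _ a, rfl⟩

variable {F : Type*} [Field F]

section alt
variable {n : Type*} [Fintype n]

/-- A symmetric matrix with zero diagonal has zero quadratic form, in characteristic two. -/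
theorem quad_alt [CharP F 2] {M : Matrix n n F} (hM : Mᵀ = M) (h0 : ∀ i, M i i = 0)
    (v : n → F) : v ⬝ᵥ M *ᵥ v = 0 := by
  classical
  have h1 : v ⬝ᵥ M *ᵥ v = ∑ p ∈ (Finset.univ : Finset (n × n)), v p.1 * (M p.1 p.2 * v p.2) := by
    rw [dotProduct, ← Finset.univ_product_univ, Finset.sum_product]
    apply Finset.sum_congr rfl
    intro i _
    rw [Matrix.mulVec, dotProduct, Finset.mul_sum]
  rw [h1]
  refine Finset.sum_involution (fun p _ => (p.2, p.1)) ?_ ?_ ?_ ?_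
  · rintro ⟨i, j⟩ _
    have : M j i = M i j := by
      conv_lhs => rw [← hM]
      rfl
    simp only
    rw [this]
    have h2 : v j * (M i j * v i) = v i * (M i j * v j) := by ring
    rw [h2]
    exact CharTwo.add_self_eq_zero _
  · rintro ⟨i, j⟩ _ hne heq
    apply hne
    simp only [Prod.mk.injEq] at heq
    rw [heq.1]
    simp [h0]
  · intro p _; simp
  · intro p _; rfl

/-- The quadratic form of a symmetric matrix is the square of a linear form. -/
theorem quad_symm [CharP F 2] {M : Matrix n n F} (hM : Mᵀ = M) {d : n → F}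
    (hd : ∀ i, d i * d i = M i i) (v : n → F) : v ⬝ᵥ M *ᵥ v = (d ⬝ᵥ v) * (d ⬝ᵥ v) := by
  have h1 : v ⬝ᵥ (M + Matrix.vecMulVec d d) *ᵥ v = 0 := by
    apply quad_alt
    · rw [Matrix.transpose_add, hM, Matrix.transpose_vecMulVec]
    · intro i
      rw [Matrix.add_apply, Matrix.vecMulVec_apply, hd]
      exact CharTwo.add_self_eq_zero _
  rw [Matrix.add_mulVec, dotProduct_add, Matrix.vecMulVec_mulVec] at h1
  rw [dotProduct_smul, dotProduct_comm v d] at h1
  have h2 : v ⬝ᵥ M *ᵥ v = MulOpposite.op (d ⬝ᵥ v) • (d ⬝ᵥ v) :=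
    CharTwo.add_eq_zero.1 h1
  rw [h2]
  rfl

end alt

section det
variable {n : Type*} [Fintype n] [DecidableEq n]

/-- An invertible alternating matrix has a symplectic basis. -/
theorem exists_basis [CharP F 2] {M : Matrix n n F} (hM : Mᵀ = M) (h0 : ∀ i, M i i = 0)
    (hd : IsUnit M.det) : ∃ (m : ℕ) (b : Module.Basis (Fin m ⊕ Fin m) F (n → F)),
      ∀ i j, b i ⬝ᵥ M *ᵥ b j = Matrix.J (Fin m) F i j := by
  have hB : ∀ v w, Matrix.toBilin' M v w = v ⬝ᵥ M *ᵥ w := fun v w => Matrix.toBilin'_apply' M v w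
  obtain ⟨m, k, b, h1, h2, h3, h4⟩ := Cfsg.Agent.S0752.result (Matrix.toBilin' M)
    (fun v => by rw [hB]; exact quad_alt hM h0 v)
  have hk : k = 0 := by
    by_contra hk
    have h5 := h4 ⟨0, Nat.pos_of_ne_zero hk⟩
    set u := b (Sum.inr ⟨0, Nat.pos_of_ne_zero hk⟩) with hu
    apply b.ne_zero (Sum.inr ⟨0, Nat.pos_of_ne_zero hk⟩)
    rw [← hu]
    have h6 : u ᵥ* M = 0 := by
      rw [← dotProduct_eq_zero_iff]
      intro w
      rw [← Matrix.dotProduct_mulVec, ← hB]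
      exact h5 w
    have hinj : Function.Injective fun v : n → F => v ᵥ* M :=
      Matrix.vecMul_injective_iff_isUnit.2 ((Matrix.isUnit_iff_isUnit_det M).2 hd)
    apply hinj
    simp [h6]
  subst hk
  refine ⟨m, b.reindex (Equiv.sumEmpty _ _), ?_⟩
  have hsym : ∀ v w, v ⬝ᵥ M *ᵥ w = w ⬝ᵥ M *ᵥ v := by
    intro v w
    rw [Matrix.dotProduct_mulVec, ← Matrix.mulVec_transpose, hM, dotProduct_comm]
  have hneg : ∀ c : F, -c = c := fun c => CharTwo.neg_eq c
  have hb : ∀ i, (b.reindex (Equiv.sumEmpty (Fin m ⊕ Fin m) (Fin 0))) i = b (Sum.inl i) := by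
    intro i
    simp
  rintro (i | i) (j | j)
  · rw [hb, hb, ← hB, h2, Matrix.J, Matrix.fromBlocks_apply₁₁, Matrix.zero_apply]
  · rw [hb, hb, ← hB, h1, Matrix.J, Matrix.fromBlocks_apply₁₂, Matrix.neg_apply, hneg,
      Matrix.one_apply]
  · rw [hb, hb, hsym, ← hB, h1, Matrix.J, Matrix.fromBlocks_apply₂₁, Matrix.one_apply]
    simp only [eq_comm]
  · rw [hb, hb, ← hB, h3, Matrix.J, Matrix.fromBlocks_apply₂₂, Matrix.zero_apply]

/-- An alternating matrix of odd size is singular. -/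
theorem det_eq_zero_of_odd [CharP F 2] {M : Matrix n n F} (hM : Mᵀ = M) (h0 : ∀ i, M i i = 0)
    (hodd : Odd (Fintype.card n)) : M.det = 0 := by
  by_contra hne
  obtain ⟨m, b, -⟩ := exists_basis hM h0 (isUnit_iff_ne_zero.2 hne)
  have h1 := Module.finrank_eq_card_basis b
  rw [Module.finrank_fintype_fun_eq_card, Fintype.card_sum, Fintype.card_fin] at h1
  obtain ⟨r, hr⟩ := hodd
  omega

/-- The bordered matrix. -/
def bord (α : Matrix n n F) (d : n → F) (c : F) : Matrix (n ⊕ Unit) (n ⊕ Unit) F :=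
  Matrix.fromBlocks α (Matrix.replicateCol Unit d) (Matrix.replicateRow Unit d) (Matrix.of fun _ _ => c)

theorem det_bord_one [CharP F 2] (α : Matrix n n F) (d : n → F) :
    (bord α d 1).det = (α + Matrix.vecMulVec d d).det := by
  have h1 : (Matrix.of fun _ _ => (1 : F) : Matrix Unit Unit F) = 1 := by
    ext i j
    simp
  rw [bord, h1, Matrix.det_fromBlocks_one₂₂]
  congr 1
  ext i j
  rw [Matrix.sub_apply, Matrix.add_apply, CharTwo.sub_eq_add]
  simp [Matrix.mul_apply, Matrix.vecMulVec_apply]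

theorem det_bord_add (α : Matrix n n F) (d : n → F) :
    (bord α d 1).det = (bord α d 0).det + α.det := by
  have h1 : bord α d 1 = Matrix.updateCol (bord α d 0) (Sum.inr ())
      (Sum.elim d (fun _ => 0) + Sum.elim (fun _ => 0) (fun _ => 1)) := by
    ext i j
    rcases i with i | i <;> rcases j with j | j <;> simp [bord]
  have h2 : Matrix.updateCol (bord α d 0) (Sum.inr ()) (Sum.elim d (fun _ => 0)) = bord α d 0 := by
    ext i j
    rcases i with i | i <;> rcases j with j | j <;> simp [bord]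
  have h3 : Matrix.updateCol (bord α d 0) (Sum.inr ()) (Sum.elim (fun _ => 0) (fun _ => 1)) =
      Matrix.fromBlocks α 0 (Matrix.replicateRow Unit d) 1 := by
    ext i j
    rcases i with i | i <;> rcases j with j | j <;> simp [bord]
  rw [h1, Matrix.det_updateCol_add, h2, h3, Matrix.det_fromBlocks_zero₁₂]
  simp

omit [Field F] [Fintype n] [DecidableEq n] in
theorem bord_transpose {α : Matrix n n F} (hα : αᵀ = α) (d : n → F) (c : F) :
    (bord α d c)ᵀ = bord α d c := by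
  rw [bord, Matrix.fromBlocks_transpose, hα]
  rfl

theorem det_add_of_even [CharP F 2] {α : Matrix n n F} (hα : αᵀ = α) (h0 : ∀ i, α i i = 0)
    (d : n → F) (he : Even (Fintype.card n)) : (α + Matrix.vecMulVec d d).det = α.det := by
  rw [← det_bord_one, det_bord_add, det_eq_zero_of_odd (bord_transpose hα d 0), zero_add]
  · rintro (i | i)
    · exact h0 i
    · rfl
  · rw [Fintype.card_sum, Fintype.card_unit]
    exact he.add_one

theorem det_add_of_odd [CharP F 2] {α : Matrix n n F} (hα : αᵀ = α) (h0 : ∀ i, α i i = 0)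
    (d : n → F) (ho : Odd (Fintype.card n)) :
    (α + Matrix.vecMulVec d d).det = (bord α d 0).det := by
  rw [← det_bord_one, det_bord_add, det_eq_zero_of_odd hα h0 ho, add_zero]

end det

section count

theorem sq_inj [CharP F 2] {x y : F} (h : x * x = y * y) : x = y := by
  have h1 : (x + y) * (x + y) = 0 := by
    have : (x + y) * (x + y) = x * x + y * y + (x * y + x * y) := by ring
    rw [this, h, CharTwo.add_self_eq_zero, CharTwo.add_self_eq_zero, zero_add]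
  exact CharTwo.add_eq_zero.1 (mul_self_eq_zero.1 h1)

theorem exists_sq [Finite F] [CharP F 2] (c : F) : ∃ d : F, d * d = c := by
  have := Fintype.ofFinite F
  obtain ⟨d, hd⟩ := FiniteField.isSquare_of_char_two (CharP.ringChar_of_prime_eq_zero
      (Nat.prime_two) (CharP.cast_eq_zero F 2)) c
  exact ⟨d, hd.symm⟩

theorem exists_sqrt [Finite F] [CharP F 2] {n : Type*} (c : n → F) : ∃ d : n → F, ∀ i, d i * d i = c i := by
  choose f hf using exists_sq (F := F)
  exact ⟨fun i => f (c i), fun i => hf (c i)⟩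

/-- `α + d dᵀ` determines `α` and `d`. -/
theorem add_vecMulVec_inj [CharP F 2] {n : Type*} {α β : Matrix n n F}
    (hα : ∀ i, α i i = 0) (hβ : ∀ i, β i i = 0) {d e : n → F}
    (h : α + Matrix.vecMulVec d d = β + Matrix.vecMulVec e e) : α = β ∧ d = e := by
  have hd : d = e := by
    funext i
    have h1 := congrFun (congrFun h i) i
    rw [Matrix.add_apply, Matrix.add_apply, hα, hβ, zero_add, zero_add, Matrix.vecMulVec_apply,
      Matrix.vecMulVec_apply] at h1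
    exact sq_inj h1
  subst hd
  exact ⟨add_right_cancel h, rfl⟩

variable [Finite F] [CharP F 2]
variable {n : Type*} [Fintype n] [DecidableEq n]

omit [Fintype n] [DecidableEq n] in
/-- every symmetric matrix is `α + d dᵀ` with `α` alternating -/
theorem exists_alt_add {M : Matrix n n F} (hM : Mᵀ = M) : ∃ (α : Matrix n n F) (d : n → F),
    αᵀ = α ∧ (∀ i, α i i = 0) ∧ (∀ i, d i * d i = M i i) ∧ α + Matrix.vecMulVec d d = M := by
  obtain ⟨d, hd⟩ := exists_sqrt fun i => M i i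
  refine ⟨M + Matrix.vecMulVec d d, d, ?_, ?_, hd, ?_⟩
  · rw [Matrix.transpose_add, hM, Matrix.transpose_vecMulVec]
  · intro i
    rw [Matrix.add_apply, Matrix.vecMulVec_apply, hd]
    exact CharTwo.add_self_eq_zero _
  · ext i j
    rw [Matrix.add_apply, Matrix.add_apply, add_assoc, CharTwo.add_self_eq_zero, add_zero]

/-- **Even size**: invertible symmetric non-alternating matrices. -/
theorem card_nonalt_even (he : Even (Fintype.card n)) :
    Nat.card {M : Matrix n n F // Mᵀ = M ∧ IsUnit M.det ∧ ∃ i, M i i ≠ 0} =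
    Nat.card {M : Matrix n n F // Mᵀ = M ∧ (∀ i, M i i = 0) ∧ IsUnit M.det} *
      (Nat.card F ^ Fintype.card n - 1) := by
  have h1 : Nat.card {d : n → F // d ≠ 0} = Nat.card F ^ Fintype.card n - 1 := by
    have := Fintype.ofFinite F
    classical
    rw [Nat.card_eq_fintype_card, Fintype.card_subtype_compl, Fintype.card_subtype_eq,
      Fintype.card_fun, Nat.card_eq_fintype_card]
  rw [← h1, ← Nat.card_prod]
  symm
  apply Nat.card_congr
  refine Equiv.ofBijective (fun p => ⟨p.1.1 + Matrix.vecMulVec p.2.1 p.2.1, ?_, ?_, ?_⟩) ⟨?_, ?_⟩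
  · rw [Matrix.transpose_add, p.1.2.1, Matrix.transpose_vecMulVec]
  · rw [det_add_of_even p.1.2.1 p.1.2.2.1 _ he]
    exact p.1.2.2.2
  · obtain ⟨i, hi⟩ := Function.ne_iff.1 p.2.2
    refine ⟨i, ?_⟩
    rw [Matrix.add_apply, p.1.2.2.1, zero_add, Matrix.vecMulVec_apply]
    exact mul_ne_zero hi hi
  · rintro ⟨⟨α, hα⟩, ⟨d, hd⟩⟩ ⟨⟨β, hβ⟩, ⟨e, he⟩⟩ h
    have h2 := add_vecMulVec_inj hα.2.1 hβ.2.1 (Subtype.ext_iff.1 h)
    obtain ⟨rfl, rfl⟩ := h2
    rfl
  · rintro ⟨M, hM, hu, i, hi⟩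
    obtain ⟨α, d, hα, h0, hd, hsum⟩ := exists_alt_add hM
    refine ⟨⟨⟨α, hα, h0, ?_⟩, ⟨d, ?_⟩⟩, Subtype.ext hsum⟩
    · rw [← det_add_of_even hα h0 d he, hsum]
      exact hu
    · rintro rfl
      apply hi
      rw [← hd]
      simp

/-- **Odd size**: invertible symmetric matrices. -/
theorem card_sym_odd (ho : Odd (Fintype.card n)) :
    Nat.card {M : Matrix n n F // Mᵀ = M ∧ IsUnit M.det} =
    Nat.card {M : Matrix (n ⊕ Unit) (n ⊕ Unit) F // Mᵀ = M ∧ (∀ i, M i i = 0) ∧ IsUnit M.det} := by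
  symm
  apply Nat.card_congr
  have hb : ∀ β : {M : Matrix (n ⊕ Unit) (n ⊕ Unit) F // Mᵀ = M ∧ (∀ i, M i i = 0) ∧ IsUnit M.det},
      (β.1).toBlocks₁₁ᵀ = (β.1).toBlocks₁₁ ∧ (∀ i, (β.1).toBlocks₁₁ i i = 0) ∧
      bord (β.1).toBlocks₁₁ (fun i => β.1 (Sum.inl i) (Sum.inr ())) 0 = β.1 := by
    rintro ⟨β, hβ, h0, hu⟩
    refine ⟨?_, ?_, ?_⟩
    · ext i j
      exact congrFun (congrFun hβ (Sum.inl i)) (Sum.inl j)
    · intro i
      exact h0 (Sum.inl i)
    · ext i j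
      rcases i with i | i <;> rcases j with j | j
      · rfl
      · rfl
      · exact congrFun (congrFun hβ (Sum.inr i)) (Sum.inl j)
      · exact (h0 (Sum.inr i)).symm
  refine Equiv.ofBijective (fun β => ⟨(β.1).toBlocks₁₁ +
    Matrix.vecMulVec (fun i => β.1 (Sum.inl i) (Sum.inr ())) (fun i => β.1 (Sum.inl i) (Sum.inr ())),
    ?_, ?_⟩) ⟨?_, ?_⟩
  · rw [Matrix.transpose_add, (hb β).1, Matrix.transpose_vecMulVec]
  · rw [det_add_of_odd (hb β).1 (hb β).2.1 _ ho, (hb β).2.2]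
    exact β.2.2.2
  · intro β γ h
    have h2 := add_vecMulVec_inj (hb β).2.1 (hb γ).2.1 (Subtype.ext_iff.1 h)
    apply Subtype.ext
    rw [← (hb β).2.2, ← (hb γ).2.2, h2.1, h2.2]
  · rintro ⟨M, hM, hu⟩
    obtain ⟨α, d, hα, h0, hd, hsum⟩ := exists_alt_add hM
    refine ⟨⟨bord α d 0, bord_transpose hα d 0, ?_, ?_⟩, Subtype.ext hsum⟩
    · rintro (i | i)
      · exact h0 i
      · rfl
    · rw [← det_add_of_odd hα h0 d ho, hsum]
      exact hu

end count

section alt2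
variable {n n' : Type*} [Fintype n] [DecidableEq n] [Fintype n'] [DecidableEq n']

theorem card_alt_reindex (e : n ≃ n') :
    Nat.card {M : Matrix n n F // Mᵀ = M ∧ (∀ i, M i i = 0) ∧ IsUnit M.det} =
    Nat.card {M : Matrix n' n' F // Mᵀ = M ∧ (∀ i, M i i = 0) ∧ IsUnit M.det} := by
  apply Nat.card_congr
  refine (Matrix.reindex e e).subtypeEquiv fun M => ?_
  rw [Matrix.transpose_reindex, Matrix.det_reindex_self]
  refine and_congr ?_ (and_congr ?_ Iff.rfl)
  · exact (Matrix.reindex e e).injective.eq_iff.symm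
  · constructor
    · intro h i
      exact h _
    · intro h i
      have := h (e i)
      simpa using this

theorem card_GL (N : ℕ) (hN : Fintype.card n = N) [Fintype F] : Nat.card (GL n F) =
    ∏ i : Fin N, (Fintype.card F ^ N - Fintype.card F ^ (i : ℕ)) := by
  rw [← Matrix.card_GL_field (𝔽 := F) N]
  have e : n ≃ Fin N := Fintype.equivFinOfCardEq hN
  exact Nat.card_congr (Units.mapEquiv (Matrix.reindexAlgEquiv F F e).toMulEquiv).toEquiv

/-- the symplectic group inside `GL` -/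
def spSub (k : ℕ) (F : Type*) [Field F] : Subgroup (GL (Fin k ⊕ Fin k) F) :=
  (MonoidHom.toHomUnits (Matrix.symplecticGroup (Fin k) F).subtype).range

theorem mem_spSub {k : ℕ} {g : GL (Fin k ⊕ Fin k) F} :
    g ∈ spSub k F ↔ (g : Matrix (Fin k ⊕ Fin k) (Fin k ⊕ Fin k) F) ∈
      Matrix.symplecticGroup (Fin k) F := by
  constructor
  · rintro ⟨A, rfl⟩
    exact A.2
  · intro h
    exact ⟨⟨_, h⟩, Units.ext rfl⟩

theorem card_spSub (k : ℕ) : Nat.card (spSub k F) = Nat.card (Matrix.symplecticGroup (Fin k) F) := by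
  symm
  apply Nat.card_congr
  refine (MonoidHom.ofInjective (f := MonoidHom.toHomUnits
    (Matrix.symplecticGroup (Fin k) F).subtype) ?_).toEquiv
  intro a b h
  exact Subtype.ext (congrArg Units.val h)

/-- **The number of invertible alternating matrices** (characteristic two) of size `2k`. -/
theorem card_alt_mul [CharP F 2] (k : ℕ) :
    Nat.card {M : Matrix (Fin k ⊕ Fin k) (Fin k ⊕ Fin k) F //
      Mᵀ = M ∧ (∀ i, M i i = 0) ∧ IsUnit M.det} * Nat.card (Matrix.symplecticGroup (Fin k) F) =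
    Nat.card (GL (Fin k ⊕ Fin k) F) := by
  have hJ : (Matrix.J (Fin k) F)ᵀ = Matrix.J (Fin k) F := by
    rw [Matrix.J_transpose]
    ext i j
    exact CharTwo.neg_eq _
  have hJ0 : ∀ i, Matrix.J (Fin k) F i i = 0 := by
    rintro (i | i) <;> simp [Matrix.J]
  have hJu : IsUnit (Matrix.J (Fin k) F).det := Matrix.isUnit_det_J (Fin k) F
  rw [← card_spSub]
  symm
  have hφ : ∀ g : GL (Fin k ⊕ Fin k) F, (g.1 * Matrix.J (Fin k) F * g.1ᵀ)ᵀ =
      g.1 * Matrix.J (Fin k) F * g.1ᵀ ∧ (∀ i, (g.1 * Matrix.J (Fin k) F * g.1ᵀ) i i = 0) ∧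
      IsUnit (g.1 * Matrix.J (Fin k) F * g.1ᵀ).det := by
    intro g
    refine ⟨?_, ?_, ?_⟩
    · rw [Matrix.transpose_mul, Matrix.transpose_mul, Matrix.transpose_transpose, hJ, mul_assoc]
    · intro i
      have h1 := quad_alt hJ hJ0 (g.1 i)
      have h2 : (g.1 * Matrix.J (Fin k) F * g.1ᵀ) i i = g.1 i ⬝ᵥ Matrix.J (Fin k) F *ᵥ g.1 i := by
        rw [Matrix.dotProduct_mulVec]
        rfl
      rw [h2, h1]
    · rw [Matrix.det_mul, Matrix.det_mul, Matrix.det_transpose]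
      have hg : IsUnit g.1.det := (Matrix.isUnit_iff_isUnit_det _).1 g.isUnit
      exact (hg.mul hJu).mul hg
  refine card_eq_card_mul (fun g => ⟨g.1 * Matrix.J (Fin k) F * g.1ᵀ, hφ g⟩) ?_ _ ?_
  · rintro ⟨M, hM, h0, hu⟩
    obtain ⟨m, b, hb⟩ := exists_basis hM h0 hu
    have hm : m = k := by
      have h1 := Module.finrank_eq_card_basis b
      rw [Module.finrank_fintype_fun_eq_card, Fintype.card_sum, Fintype.card_fin, Fintype.card_sum,
        Fintype.card_fin] at h1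
      omega
    subst hm
    set P : Matrix (Fin m ⊕ Fin m) (Fin m ⊕ Fin m) F := Matrix.of fun i => b i with hP
    have hPM : P * M * Pᵀ = Matrix.J (Fin m) F := by
      ext i j
      rw [← hb i j, Matrix.dotProduct_mulVec]
      rfl
    have hPu : IsUnit P := by
      have h1 : P.det * M.det * P.det = (Matrix.J (Fin m) F).det := by
        rw [← hPM, Matrix.det_mul, Matrix.det_mul, Matrix.det_transpose]
      rw [Matrix.isUnit_iff_isUnit_det]
      rw [← h1] at hJu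
      exact isUnit_of_mul_isUnit_right hJu
    obtain ⟨u, hu'⟩ := hPu
    refine ⟨u⁻¹, Subtype.ext ?_⟩
    change (u⁻¹ : GL (Fin m ⊕ Fin m) F).1 * Matrix.J (Fin m) F * (u⁻¹ : GL (Fin m ⊕ Fin m) F).1ᵀ = M
    rw [← hPM, ← hu']
    have h2 : (u : Matrix (Fin m ⊕ Fin m) (Fin m ⊕ Fin m) F)ᵀ *
        ((u⁻¹ : GL (Fin m ⊕ Fin m) F) : Matrix (Fin m ⊕ Fin m) (Fin m ⊕ Fin m) F)ᵀ = 1 := by
      rw [← Matrix.transpose_mul, Units.inv_mul, Matrix.transpose_one]
    calc _ = ((u⁻¹ : GL (Fin m ⊕ Fin m) F) : Matrix (Fin m ⊕ Fin m) (Fin m ⊕ Fin m) F) *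
          (u : Matrix (Fin m ⊕ Fin m) (Fin m ⊕ Fin m) F) * M *
          ((u : Matrix (Fin m ⊕ Fin m) (Fin m ⊕ Fin m) F)ᵀ *
        ((u⁻¹ : GL (Fin m ⊕ Fin m) F) : Matrix (Fin m ⊕ Fin m) (Fin m ⊕ Fin m) F)ᵀ) := by
          simp only [mul_assoc]
      _ = M := by rw [h2, Units.inv_mul, one_mul, mul_one]
  · intro a b
    rw [Subtype.mk.injEq]
    rw [mem_spSub, SymplecticGroup.mem_iff, Units.val_mul, Matrix.transpose_mul]
    have h2 : ((a⁻¹ : GL (Fin k ⊕ Fin k) F) : Matrix (Fin k ⊕ Fin k) (Fin k ⊕ Fin k) F) *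
      (a : Matrix (Fin k ⊕ Fin k) (Fin k ⊕ Fin k) F) = 1 := Units.inv_mul a
    have h2' : (a : Matrix (Fin k ⊕ Fin k) (Fin k ⊕ Fin k) F) *
      ((a⁻¹ : GL (Fin k ⊕ Fin k) F) : Matrix (Fin k ⊕ Fin k) (Fin k ⊕ Fin k) F) = 1 := Units.mul_inv a
    have h3 : (a : Matrix (Fin k ⊕ Fin k) (Fin k ⊕ Fin k) F)ᵀ *
      ((a⁻¹ : GL (Fin k ⊕ Fin k) F) : Matrix (Fin k ⊕ Fin k) (Fin k ⊕ Fin k) F)ᵀ = 1 := by
      rw [← Matrix.transpose_mul, h2, Matrix.transpose_one]
    have h3' : ((a⁻¹ : GL (Fin k ⊕ Fin k) F) : Matrix (Fin k ⊕ Fin k) (Fin k ⊕ Fin k) F)ᵀ *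
      (a : Matrix (Fin k ⊕ Fin k) (Fin k ⊕ Fin k) F)ᵀ = 1 := by
      rw [← Matrix.transpose_mul, h2', Matrix.transpose_one]
    constructor
    · intro h
      calc _ = ((a⁻¹ : GL (Fin k ⊕ Fin k) F) : Matrix (Fin k ⊕ Fin k) (Fin k ⊕ Fin k) F) *
            ((b : Matrix (Fin k ⊕ Fin k) (Fin k ⊕ Fin k) F) * Matrix.J (Fin k) F *
            (b : Matrix (Fin k ⊕ Fin k) (Fin k ⊕ Fin k) F)ᵀ) *
            ((a⁻¹ : GL (Fin k ⊕ Fin k) F) : Matrix (Fin k ⊕ Fin k) (Fin k ⊕ Fin k) F)ᵀ := by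
            simp only [mul_assoc]
        _ = (((a⁻¹ : GL (Fin k ⊕ Fin k) F) : Matrix (Fin k ⊕ Fin k) (Fin k ⊕ Fin k) F) *
            (a : Matrix (Fin k ⊕ Fin k) (Fin k ⊕ Fin k) F)) * Matrix.J (Fin k) F *
            ((a : Matrix (Fin k ⊕ Fin k) (Fin k ⊕ Fin k) F)ᵀ *
            ((a⁻¹ : GL (Fin k ⊕ Fin k) F) : Matrix (Fin k ⊕ Fin k) (Fin k ⊕ Fin k) F)ᵀ) := by
            rw [← h]; simp only [mul_assoc]
        _ = _ := by rw [h2, h3, one_mul, mul_one]
    · intro h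
      symm
      calc _ = ((a : Matrix (Fin k ⊕ Fin k) (Fin k ⊕ Fin k) F) *
            ((a⁻¹ : GL (Fin k ⊕ Fin k) F) : Matrix (Fin k ⊕ Fin k) (Fin k ⊕ Fin k) F)) *
            ((b : Matrix (Fin k ⊕ Fin k) (Fin k ⊕ Fin k) F) * Matrix.J (Fin k) F *
            (b : Matrix (Fin k ⊕ Fin k) (Fin k ⊕ Fin k) F)ᵀ) *
            (((a⁻¹ : GL (Fin k ⊕ Fin k) F) : Matrix (Fin k ⊕ Fin k) (Fin k ⊕ Fin k) F)ᵀ *
            (a : Matrix (Fin k ⊕ Fin k) (Fin k ⊕ Fin k) F)ᵀ) := by rw [h2', h3', one_mul, mul_one]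
        _ = (a : Matrix (Fin k ⊕ Fin k) (Fin k ⊕ Fin k) F) *
            (((a⁻¹ : GL (Fin k ⊕ Fin k) F) : Matrix (Fin k ⊕ Fin k) (Fin k ⊕ Fin k) F) *
            (b : Matrix (Fin k ⊕ Fin k) (Fin k ⊕ Fin k) F) * Matrix.J (Fin k) F *
            ((b : Matrix (Fin k ⊕ Fin k) (Fin k ⊕ Fin k) F)ᵀ *
            ((a⁻¹ : GL (Fin k ⊕ Fin k) F) : Matrix (Fin k ⊕ Fin k) (Fin k ⊕ Fin k) F)ᵀ)) *
            (a : Matrix (Fin k ⊕ Fin k) (Fin k ⊕ Fin k) F)ᵀ := by simp only [mul_assoc]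
        _ = _ := by rw [h]

end alt2

end Cfsg.Agent.H195
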