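import Mathlib
import Cfsg.Agent.H195.SpCent

set_option autoImplicit false

/-!
# Centralizer orders of involutions in `Sp_2m(q)`, `q` even (helper195)
-/

open Cfsg
open scoped Matrix

namespace Cfsg.Agent.H195.SpCent

/-- `|Sp_2k(q)|` -/
def aa (q k : ℕ) : ℕ := q ^ (k ^ 2) * ∏ i : Fin k, (q ^ (2 * ((i : ℕ) + 1)) - 1)

/-- `|GL_s(q)|` -/
def gg (q s : ℕ) : ℕ := ∏ i : Fin s, (q ^ s - q ^ (i : ℕ))

theorem aa_succ (q k : ℕ) : aa q (k + 1) = aa q k * (q ^ (2 * k + 1) * (q ^ (2 * k + 2) - 1)) := by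
  rw [aa, aa, Fin.prod_univ_castSucc]
  simp only [Fin.val_castSucc, Fin.val_last]
  have h1 : (k + 1) ^ 2 = k ^ 2 + (2 * k + 1) := by ring
  rw [h1, pow_add]
  have h2 : 2 * (k + 1) = 2 * k + 2 := by ring
  rw [h2]
  ring

theorem gg_succ (q s : ℕ) : gg q (s + 1) = gg q s * (q ^ s * (q ^ (s + 1) - 1)) := by
  rw [gg, gg, Fin.prod_univ_succ]
  have h1 : ∏ i : Fin s, (q ^ (s + 1) - q ^ ((i.succ : Fin (s + 1)) : ℕ)) =
      q ^ s * ∏ i : Fin s, (q ^ s - q ^ (i : ℕ)) := by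
    have h2 : ∀ i : Fin s, q ^ (s + 1) - q ^ ((i.succ : Fin (s + 1)) : ℕ) =
        q * (q ^ s - q ^ (i : ℕ)) := by
      intro i
      rw [Nat.mul_sub, Fin.val_succ, pow_succ', pow_succ']
    rw [Finset.prod_congr rfl fun i _ => h2 i, Finset.prod_mul_distrib, Finset.prod_const,
      Finset.card_univ, Fintype.card_fin]
  rw [h1]
  simp only [Fin.val_zero, pow_zero]
  ring

variable {F : Type*} [Field F] [Fintype F]

theorem card_sp (k : ℕ) : Nat.card (Matrix.symplecticGroup (Fin k) F) = aa (Fintype.card F) k := by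
  rw [Cfsg.Agent.S0245.result rfl, aa, Finset.prod_range]

theorem card_stab_eq {m s : ℕ} (hs : s ≤ m) (W : Submodule F (Fin m ⊕ Fin m → F))
    (hWk : Module.finrank F W = s) (hW : ∀ u ∈ W, ∀ v ∈ W, Cfsg.sympForm m F u v = 0) :
    Nat.card ↥(Cfsg.stabilizing (Cfsg.spToMat m F) (W : Set (Fin m ⊕ Fin m → F))) =
    Fintype.card F ^ (s * (s + 1) / 2 + 2 * s * (m - s)) * aa (Fintype.card F) (m - s) *
      gg (Fintype.card F) s := by
  rw [Cfsg.Agent.S0775.result rfl m s hs W hWk hW, aa, gg, Finset.prod_range]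

variable [CharP F 2]

theorem card_alt (k : ℕ) {n : Type*} [Fintype n] [DecidableEq n] (hn : Fintype.card n = 2 * k) :
    Nat.card {M : Matrix n n F // Mᵀ = M ∧ (∀ i, M i i = 0) ∧ IsUnit M.det} *
      aa (Fintype.card F) k = gg (Fintype.card F) (2 * k) := by
  have e : n ≃ (Fin k ⊕ Fin k) := by
    refine Fintype.equivOfCardEq ?_
    rw [hn, Fintype.card_sum, Fintype.card_fin]
    omega
  rw [card_alt_reindex e, ← card_sp, card_alt_mul, card_GL (2 * k), gg]
  rw [Fintype.card_sum, Fintype.card_fin]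
  omega

theorem card_YY_alt (k : ℕ) {n : Type*} [Fintype n] [DecidableEq n] (hn : Fintype.card n = 2 * k)
    {p : Prop} (hp : p) :
    Nat.card (YY n F p) * aa (Fintype.card F) k = gg (Fintype.card F) (2 * k) := by
  rw [← card_alt k hn]
  congr 1
  apply Nat.card_congr
  refine Equiv.subtypeEquivRight fun M => ?_
  tauto

theorem card_YY_odd (k : ℕ) {n : Type*} [Fintype n] [DecidableEq n]
    (hn : Fintype.card n = 2 * k + 1) {p : Prop} (hp : ¬ p) :
    Nat.card (YY n F p) * aa (Fintype.card F) k = gg (Fintype.card F) (2 * k + 1) := by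
  have ho : Odd (Fintype.card n) := ⟨k, hn⟩
  have h1 : Nat.card (YY n F p) = Nat.card {M : Matrix n n F // Mᵀ = M ∧ IsUnit M.det} := by
    apply Nat.card_congr
    refine Equiv.subtypeEquivRight fun M => ?_
    constructor
    · rintro ⟨h1, h2, -⟩
      exact ⟨h1, h2⟩
    · rintro ⟨h1, h2⟩
      refine ⟨h1, h2, ?_⟩
      have : ¬ ∀ i, M i i = 0 := fun h0 => by
        rw [det_eq_zero_of_odd h1 h0 ho] at h2
        exact not_isUnit_zero h2
      tauto
  have h2 := card_alt (F := F) (k + 1) (n := n ⊕ Unit) (by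
    rw [Fintype.card_sum, hn, Fintype.card_unit]; ring)
  rw [h1, card_sym_odd ho]
  rw [aa_succ, show 2 * (k + 1) = 2 * k + 1 + 1 by ring, gg_succ, ← mul_assoc] at h2
  refine Nat.eq_of_mul_eq_mul_right ?_ h2
  have hq : 1 < Fintype.card F := Fintype.one_lt_card
  have h3 : 1 < Fintype.card F ^ (2 * k + 1 + 1) := Nat.one_lt_pow (by omega) hq
  have h4 : 0 < Fintype.card F ^ (2 * k + 1) := by positivity
  exact Nat.mul_pos h4 (Nat.sub_pos_of_lt h3)

theorem card_YY_even (k : ℕ) {n : Type*} [Fintype n] [DecidableEq n]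
    (hn : Fintype.card n = 2 * k + 2) {p : Prop} (hp : ¬ p) :
    Nat.card (YY n F p) * (Fintype.card F ^ (2 * k + 1) * aa (Fintype.card F) k) =
      gg (Fintype.card F) (2 * k + 2) := by
  have he : Even (Fintype.card n) := ⟨k + 1, by rw [hn]; ring⟩
  have h1 : Nat.card (YY n F p) =
      Nat.card {M : Matrix n n F // Mᵀ = M ∧ IsUnit M.det ∧ ∃ i, M i i ≠ 0} := by
    apply Nat.card_congr
    refine Equiv.subtypeEquivRight fun M => ?_
    have : (∃ i, M i i ≠ 0) ↔ ¬ ∀ i, M i i = 0 := by push Not; rfl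
    rw [this]
    tauto
  have h2 := card_alt (F := F) (k + 1) (n := n) (by rw [hn]; ring)
  rw [h1, card_nonalt_even he, Nat.card_eq_fintype_card (α := F), hn]
  rw [aa_succ, show 2 * (k + 1) = 2 * k + 2 by ring] at h2
  rw [← h2]
  ring

theorem exp_one {m s : ℕ} (h : s ≤ m) :
    s * (s + 1) / 2 + 2 * s * (m - s) = 2 * m * s - (3 * s ^ 2 - s) / 2 := by
  obtain ⟨d, rfl⟩ := Nat.exists_eq_add_of_le h
  obtain ⟨r, hr⟩ := Nat.even_mul_succ_self s
  have h1 : s * (s + 1) = s ^ 2 + s := by ring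
  have h2 : 2 * (s + d) * s = 2 * s ^ 2 + 2 * s * d := by ring
  rw [Nat.add_sub_cancel_left, h2]
  rw [h1] at hr ⊢
  have h3 : s ≤ s ^ 2 := Nat.le_self_pow (by norm_num) s
  generalize s ^ 2 = S at *
  generalize 2 * s * d = D at *
  omega

theorem exp_two {m s : ℕ} (h : s ≤ m) (hs : 1 ≤ s) :
    s * (s + 1) / 2 + 2 * s * (m - s) + (s - 1) = 2 * m * s - (3 * s ^ 2 - 3 * s) / 2 - 1 := by
  obtain ⟨d, rfl⟩ := Nat.exists_eq_add_of_le h
  obtain ⟨r, hr⟩ := Nat.even_mul_succ_self s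
  have h1 : s * (s + 1) = s ^ 2 + s := by ring
  have h2 : 2 * (s + d) * s = 2 * s ^ 2 + 2 * s * d := by ring
  rw [Nat.add_sub_cancel_left, h2]
  rw [h1] at hr ⊢
  have h3 : s ≤ s ^ 2 := Nat.le_self_pow (by norm_num) s
  generalize s ^ 2 = S at *
  generalize 2 * s * d = D at *
  omega

/-- The basic equation. -/
theorem card_mul_eq {m s : ℕ} {t : Matrix.symplecticGroup (Fin m) F} (ht : t ^ 2 = 1)
    (hs : ((t : Matrix (Fin m ⊕ Fin m) (Fin m ⊕ Fin m) F) - 1).rank = s) {c : ℕ}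
    (hc : Nat.card (YY (Fin s) F (Alt t)) * c = gg (Fintype.card F) s) :
    Nat.card ↥(Subgroup.centralizer ({t} : Set ↥(Matrix.symplecticGroup (Fin m) F))) =
    Fintype.card F ^ (s * (s + 1) / 2 + 2 * s * (m - s)) * c * aa (Fintype.card F) (m - s) ∧
    s ≤ m := by
  have hsm : s ≤ m := by
    rw [← hs, ← finrank_im]
    exact finrank_im_le ht
  refine ⟨?_, hsm⟩
  have h1 := card_stab ht
  rw [card_stab_eq hsm _ (by rw [finrank_im, hs]) (im_isotropic ht),
    card_XX (n := Fin s) (im_isotropic ht) (by rw [finrank_im, hs, Fintype.card_fin]), ← hc] at h1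
  have h2 : 0 < Nat.card (YY (Fin s) F (Alt t)) := by
    have h3 := card_XX (n := Fin s) (im_isotropic ht) (by rw [finrank_im, hs, Fintype.card_fin])
      (Alt t)
    rw [← h3]
    have : Finite (XX (im (t : Matrix (Fin m ⊕ Fin m) (Fin m ⊕ Fin m) F)) (Alt t)) :=
      Subtype.finite
    have : Nonempty (XX (im (t : Matrix (Fin m ⊕ Fin m) (Fin m ⊕ Fin m) F)) (Alt t)) :=
      ⟨⟨t, ht, rfl, Iff.rfl⟩⟩
    exact Nat.card_pos
  refine Nat.eq_of_mul_eq_mul_left h2 ?_
  rw [← h1]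
  ring

end Cfsg.Agent.H195.SpCent
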